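import Cfsg.Agent.Cod.Gen
import Cfsg.Agent.Recog.J1.Data

set_option autoImplicit false
set_option maxRecDepth 1000000
set_option maxHeartbeats 0
set_option Elab.async false

namespace CF.Recog.J1

open CF.Comp CF.Cod

theorem eH_all : Cov eH_F 4 4 0 := by
  have h := Cov.zero eH_F 4
  have h := h.blk (b := 4) eH_k0_0 rfl
  have h := h.next (y := 1) rfl rfl
  have h := h.blk (b := 4) eH_k1_0 rfl
  have h := h.next (y := 2) rfl rfl
  have h := h.blk (b := 4) eH_k2_0 rfl
  have h := h.next (y := 3) rfl rfl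
  have h := h.blk (b := 4) eH_k3_0 rfl
  have h := h.next (y := 4) rfl rfl
  exact h

theorem eH : Enum RH [] (gensW 3) 120 :=
  ⟨eH_cols, eH_ch, eH_L, eH_H, eH_pb.1, eH_e.get, [(nat_lit 0), (nat_lit 1), (nat_lit 3), (nat_lit 5)], (nat_lit 7), (nat_lit 3), eH_rots, eH_hcs,
    (nat_lit 121), (nat_lit 4), (nat_lit 128), (nat_lit 16), (nat_lit 2048), (nat_lit 8191), (nat_lit 8), (nat_lit 255), (nat_lit 15), (nat_lit 32767), (nat_lit 1), (nat_lit 4),
    fun _ _ => rfl, fun _ => rfl, fun _ _ => rfl, by decide +kernel, eH_all.1⟩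

theorem e0_all : Cov e0_F 4 5 0 := by
  have h := Cov.zero e0_F 4
  have h := h.blk (b := 4) e0_k0_0 rfl
  have h := h.next (y := 1) rfl rfl
  have h := h.blk (b := 4) e0_k1_0 rfl
  have h := h.next (y := 2) rfl rfl
  have h := h.blk (b := 4) e0_k2_0 rfl
  have h := h.next (y := 3) rfl rfl
  have h := h.blk (b := 4) e0_k3_0 rfl
  have h := h.next (y := 4) rfl rfl
  have h := h.blk (b := 4) e0_k4_0 rfl
  have h := h.next (y := 5) rfl rfl
  exact h

theorem e0 : Enum R0 [] hE 120 :=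
  ⟨e0_cols, e0_ch, e0_L, e0_H, e0_pb.1, e0_e.get, [(nat_lit 0), (nat_lit 1), (nat_lit 3), (nat_lit 5), (nat_lit 9)], (nat_lit 23), (nat_lit 5), e0_rots, e0_hcs,
    (nat_lit 121), (nat_lit 5), (nat_lit 128), (nat_lit 32), (nat_lit 4096), (nat_lit 8191), (nat_lit 8), (nat_lit 255), (nat_lit 16), (nat_lit 65535), (nat_lit 1), (nat_lit 4),
    fun _ _ => rfl, fun _ => rfl, fun _ _ => rfl, by decide +kernel, e0_all.1⟩

theorem eA01_all : Cov eA01_F 64 6 0 := by
  have h := Cov.zero eA01_F 64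
  have h := h.blk (b := 64) eA01_k0_0 rfl
  have h := h.next (y := 1) rfl rfl
  have h := h.blk (b := 64) eA01_k1_0 rfl
  have h := h.next (y := 2) rfl rfl
  have h := h.blk (b := 64) eA01_k2_0 rfl
  have h := h.next (y := 3) rfl rfl
  have h := h.blk (b := 64) eA01_k3_0 rfl
  have h := h.next (y := 4) rfl rfl
  have h := h.blk (b := 64) eA01_k4_0 rfl
  have h := h.next (y := 5) rfl rfl
  have h := h.blk (b := 64) eA01_k5_0 rfl
  have h := h.next (y := 6) rfl rfl
  exact h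

theorem eA01 : Enum RA01 hE (gensW 5) 1463 :=
  ⟨eA01_cols, eA01_ch, eA01_L, eA01_H, eA01_pb.1, eA01_e.get, [(nat_lit 0), (nat_lit 1), (nat_lit 3), (nat_lit 5), (nat_lit 7), (nat_lit 9)], (nat_lit 31), (nat_lit 5), eA01_rots, eA01_hcs,
    (nat_lit 1464), (nat_lit 6), (nat_lit 4096), (nat_lit 128), (nat_lit 524288), (nat_lit 262143), (nat_lit 8), (nat_lit 255), (nat_lit 26), (nat_lit 67108863), (nat_lit 16), (nat_lit 64),
    fun _ _ => rfl, fun _ => rfl, fun _ _ => rfl, by decide +kernel, eA01_all.1⟩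

theorem eA00_all : Cov eA00_F 24 6 0 := by
  have h := Cov.zero eA00_F 24
  have h := h.blk (b := 24) eA00_k0_0 rfl
  have h := h.next (y := 1) rfl rfl
  have h := h.blk (b := 24) eA00_k1_0 rfl
  have h := h.next (y := 2) rfl rfl
  have h := h.blk (b := 24) eA00_k2_0 rfl
  have h := h.next (y := 3) rfl rfl
  have h := h.blk (b := 24) eA00_k3_0 rfl
  have h := h.next (y := 4) rfl rfl
  have h := h.blk (b := 24) eA00_k4_0 rfl
  have h := h.next (y := 5) rfl rfl
  have h := h.blk (b := 24) eA00_k5_0 rfl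
  have h := h.next (y := 6) rfl rfl
  exact h

theorem eA00 : Enum RA00 hE (gensW 5) 1 :=
  ⟨eA00_cols, eA00_ch, eA00_L, eA00_H, eA00_pb.1, eA00_e.get, [(nat_lit 0), (nat_lit 1), (nat_lit 3), (nat_lit 5), (nat_lit 7), (nat_lit 9)], (nat_lit 31), (nat_lit 5), eA00_rots, eA00_hcs,
    (nat_lit 2), (nat_lit 6), (nat_lit 2048), (nat_lit 64), (nat_lit 131072), (nat_lit 131071), (nat_lit 8), (nat_lit 255), (nat_lit 24), (nat_lit 16777215), (nat_lit 6), (nat_lit 24),
    fun _ _ => rfl, fun _ => rfl, fun _ _ => rfl, by decide +kernel, eA00_all.1⟩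

theorem eA11_all : Cov eA11_F 24 6 0 := by
  have h := Cov.zero eA11_F 24
  have h := h.blk (b := 24) eA11_k0_0 rfl
  have h := h.next (y := 1) rfl rfl
  have h := h.blk (b := 24) eA11_k1_0 rfl
  have h := h.next (y := 2) rfl rfl
  have h := h.blk (b := 24) eA11_k2_0 rfl
  have h := h.next (y := 3) rfl rfl
  have h := h.blk (b := 24) eA11_k3_0 rfl
  have h := h.next (y := 4) rfl rfl
  have h := h.blk (b := 24) eA11_k4_0 rfl
  have h := h.next (y := 5) rfl rfl
  have h := h.blk (b := 24) eA11_k5_0 rfl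
  have h := h.next (y := 6) rfl rfl
  exact h

theorem eA11 : Enum RA11 hE (gensW 5) 1 :=
  ⟨eA11_cols, eA11_ch, eA11_L, eA11_H, eA11_pb.1, eA11_e.get, [(nat_lit 0), (nat_lit 1), (nat_lit 3), (nat_lit 5), (nat_lit 7), (nat_lit 9)], (nat_lit 31), (nat_lit 5), eA11_rots, eA11_hcs,
    (nat_lit 2), (nat_lit 6), (nat_lit 2048), (nat_lit 64), (nat_lit 131072), (nat_lit 131071), (nat_lit 8), (nat_lit 255), (nat_lit 25), (nat_lit 33554431), (nat_lit 6), (nat_lit 24),
    fun _ _ => rfl, fun _ => rfl, fun _ _ => rfl, by decide +kernel, eA11_all.1⟩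

theorem eB00_all : Cov eB00_F 72 6 0 := by
  have h := Cov.zero eB00_F 72
  have h := h.blk (b := 72) eB00_k0_0 rfl
  have h := h.next (y := 1) rfl rfl
  have h := h.blk (b := 72) eB00_k1_0 rfl
  have h := h.next (y := 2) rfl rfl
  have h := h.blk (b := 72) eB00_k2_0 rfl
  have h := h.next (y := 3) rfl rfl
  have h := h.blk (b := 72) eB00_k3_0 rfl
  have h := h.next (y := 4) rfl rfl
  have h := h.blk (b := 72) eB00_k4_0 rfl
  have h := h.next (y := 5) rfl rfl
  have h := h.blk (b := 72) eB00_k5_0 rfl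
  have h := h.next (y := 6) rfl rfl
  exact h

theorem eB00 : Enum RB00 hE (gensW 5) 1 :=
  ⟨eB00_cols, eB00_ch, eB00_L, eB00_H, eB00_pb.1, eB00_e.get, [(nat_lit 0), (nat_lit 1), (nat_lit 3), (nat_lit 5), (nat_lit 7), (nat_lit 9)], (nat_lit 31), (nat_lit 5), eB00_rots, eB00_hcs,
    (nat_lit 2), (nat_lit 6), (nat_lit 8192), (nat_lit 64), (nat_lit 524288), (nat_lit 524287), (nat_lit 8), (nat_lit 255), (nat_lit 27), (nat_lit 134217727), (nat_lit 18), (nat_lit 72),
    fun _ _ => rfl, fun _ => rfl, fun _ _ => rfl, by decide +kernel, eB00_all.1⟩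

theorem eB01_all : Cov eB01_F 60 6 0 := by
  have h := Cov.zero eB01_F 60
  have h := h.blk (b := 60) eB01_k0_0 rfl
  have h := h.next (y := 1) rfl rfl
  have h := h.blk (b := 60) eB01_k1_0 rfl
  have h := h.next (y := 2) rfl rfl
  have h := h.blk (b := 60) eB01_k2_0 rfl
  have h := h.next (y := 3) rfl rfl
  have h := h.blk (b := 60) eB01_k3_0 rfl
  have h := h.next (y := 4) rfl rfl
  have h := h.blk (b := 60) eB01_k4_0 rfl
  have h := h.next (y := 5) rfl rfl
  have h := h.blk (b := 60) eB01_k5_0 rfl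
  have h := h.next (y := 6) rfl rfl
  exact h

theorem eB01 : Enum RB01 hE (gensW 5) 1 :=
  ⟨eB01_cols, eB01_ch, eB01_L, eB01_H, eB01_pb.1, eB01_e.get, [(nat_lit 0), (nat_lit 1), (nat_lit 3), (nat_lit 5), (nat_lit 7), (nat_lit 9)], (nat_lit 31), (nat_lit 5), eB01_rots, eB01_hcs,
    (nat_lit 2), (nat_lit 6), (nat_lit 4096), (nat_lit 64), (nat_lit 262144), (nat_lit 262143), (nat_lit 8), (nat_lit 255), (nat_lit 26), (nat_lit 67108863), (nat_lit 15), (nat_lit 60),
    fun _ _ => rfl, fun _ => rfl, fun _ _ => rfl, by decide +kernel, eB01_all.1⟩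

theorem eB11_all : Cov eB11_F 92 6 0 := by
  have h := Cov.zero eB11_F 92
  have h := h.blk (b := 92) eB11_k0_0 rfl
  have h := h.next (y := 1) rfl rfl
  have h := h.blk (b := 92) eB11_k1_0 rfl
  have h := h.next (y := 2) rfl rfl
  have h := h.blk (b := 92) eB11_k2_0 rfl
  have h := h.next (y := 3) rfl rfl
  have h := h.blk (b := 92) eB11_k3_0 rfl
  have h := h.next (y := 4) rfl rfl
  have h := h.blk (b := 92) eB11_k4_0 rfl
  have h := h.next (y := 5) rfl rfl
  have h := h.blk (b := 92) eB11_k5_0 rfl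
  have h := h.next (y := 6) rfl rfl
  exact h

theorem eB11 : Enum RB11 hE (gensW 5) 1 :=
  ⟨eB11_cols, eB11_ch, eB11_L, eB11_H, eB11_pb.1, eB11_e.get, [(nat_lit 0), (nat_lit 1), (nat_lit 3), (nat_lit 5), (nat_lit 7), (nat_lit 9)], (nat_lit 31), (nat_lit 5), eB11_rots, eB11_hcs,
    (nat_lit 2), (nat_lit 6), (nat_lit 8192), (nat_lit 128), (nat_lit 1048576), (nat_lit 524287), (nat_lit 8), (nat_lit 255), (nat_lit 28), (nat_lit 268435455), (nat_lit 23), (nat_lit 92),
    fun _ _ => rfl, fun _ => rfl, fun _ _ => rfl, by decide +kernel, eB11_all.1⟩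

theorem pH : TH.Pres RH (gensW 3) :=
  ⟨CT.ok_spec TH_ok, lall_iff.1 TH_rel, by decide +kernel, by decide +kernel, by decide +kernel,
    eH.bound (ug_rels _) (bound_nil _)⟩

instance gTH : TH.Grp := pH.grp


end CF.Recog.J1
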